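import Groth.Agent.CurveVA.Main
import Groth.Agent.CurveRR.Series

/-!
On a genus zero curve, invertible modules of positive degree are very ample (normal generation).
-/

set_option autoImplicit false
set_option backward.isDefEq.respectTransparency false
set_option linter.style.haveILetI false

universe u

open CategoryTheory CategoryTheory.Limits AlgebraicGeometry TopologicalSpace Opposite
open Groth.Agent.CohFinite
open Groth.Agent.QC (res resO res_res res_self res_smul resO_resO resO_self section_eq_of_locally app_res)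
open Groth.Agent.CurveRR
open TMul (IsGen homOf val_homOf tm)

noncomputable section

namespace Groth.Agent.CurveVA

attribute [local instance] secMod

variable {k : Type u} [Field k] {n : ℕ} {X : Scheme.{u}} [X.Over (Spec (CommRingCat.of k))]
  [IsProper (X ↘ Spec (CommRingCat.of k))] (f : X ⟶ CohB1.ProjSpace n k)

/-- Surjectivity on charts gives a closed immersion. -/
theorem isClosedImmersion_of_app_surjective [IsFinite f]
    (hs : ∀ l : Fin (n + 1), Function.Surjective (f.app (chart k l))) : IsClosedImmersion f := by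
  refine IsZariskiLocalAtTarget.of_iSup_eq_top (fun l : Fin (n + 1) => chart k l)
    (top_le_iff.mp fun y _ => Opens.mem_iSup.mpr (PicPn.exists_mem_ch y)) fun l => ?_
  have hV := isAffineOpen_chart (k := k) l
  have hU : IsAffineOpen (f ⁻¹ᵁ chart k l) := hV.preimage f
  haveI : IsAffine (chart k l).toScheme := hV
  haveI : IsAffine (f ⁻¹ᵁ chart k l).toScheme := hU
  refine IsClosedImmersion.of_surjective_of_isAffine _ ?_
  rw [morphismRestrict_appTop]
  have hbot : (chart k l).ι ''ᵁ ⊤ = chart k l := by simp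
  have hs' : ∀ (W : (CohB1.ProjSpace n k).Opens), W = chart k l → Function.Surjective (f.app W) :=
    fun W hW => hW ▸ hs l
  exact (ConcreteCategory.bijective_of_isIso
    (X.presheaf.map (eqToHom (image_morphismRestrict_preimage f (chart k l) ⊤)).op)).2.comp (hs' _ hbot)

variable [IsIntegral X] (hdim : topologicalKrullDim X = 1)
  (hf : f ≫ CohB1.ProjSpace.toSpec n k = X ↘ Spec (CommRingCat.of k))
  (h0 : h k (Coh.structureModule X) 0 = 1) (hg : Curv2.genus k X = 0)
  (hdeg : 0 < Curv2.deg k X (O1 f) 1)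
  (hsurj : ∀ t : Γ(O1 f, ⊤), ∃ c : Fin (n + 1) → k, t = ProjMor.pull1 f (ProjMor.linForms_mem n k c))

include hdim hf h0 hg hdeg hsurj in
/-- Sections of powers are polynomials in the coordinates. -/
theorem coeff_of_power (l : Fin (n + 1)) (G : X.Opens) (hG : G ≤ f ⁻¹ᵁ chart k l) : ∀ (m : ℕ)
    (W : Γ(CohB1.tensorPow (O1 f) m, ⊤)), ∃ a : Γ(CohB1.ProjSpace n k, chart k l),
      res _ (le_top : G ≤ ⊤) W =
        (f.appLE (chart k l) G hG).hom a • TMul.pw (res (O1 f) (le_top : G ≤ ⊤) (ProjMor.pull1 f (PicPn.X_mem (k := k) l))) m := by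
  classical
  haveI := isNoetherian_of_proper k X
  intro m
  induction m with
  | zero =>
    intro W
    haveI := finite_proper k X (Coh.structureModule X) RefStalk.isCoh_structureModule 0
    let e : k →ₗ[k] Γ(Coh.structureModule X, ⊤) :=
      { toFun := fun a => CurveRR.cst k X ⊤ a
        map_add' := map_add _
        map_smul' := fun a b => map_mul (CurveRR.cst k X ⊤) a b }
    haveI : Module.Finite k Γ(Coh.structureModule X, ⊤) :=
      Module.Finite.equiv (secH0 (k := k) (Coh.structureModule X)).symm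
    haveI : Nontrivial Γ(X, ⊤) := by
      haveI : Nonempty (⊤ : X.Opens) := ⟨⟨genericPoint X, trivial⟩⟩
      infer_instance
    have he : Function.Injective e := (CurveRR.cst k X ⊤).injective
    have hsur : Function.Surjective e := (LinearMap.injective_iff_surjective_of_finrank_eq_finrank
      (by rw [Module.finrank_self, finrank_sec, h0])).mp he
    obtain ⟨a, ha⟩ := hsur W
    refine ⟨ZeroSch.cst k (chart k l) a, ?_⟩
    rw [← ha]
    show resO X le_top (CurveRR.cst k X ⊤ a) = (f.appLE (chart k l) G hG).hom (ZeroSch.cst k _ a) * (1 : Γ(X, G))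
    rw [mul_one, show (f.appLE (chart k l) G hG).hom (ZeroSch.cst k (chart k l) a) =
      resO X hG ((f.app (chart k l)).hom (ZeroSch.cst k (chart k l) a)) from rfl, app_cst f hf]
    exact (resO_resO _ _ _).trans (resO_resO _ _ _).symm
  | succ m ih =>
    intro W
    let L := O1 f
    have hL : PicF.IsInvertible (O1 f) := isInvertible_O1 f
    have hP := TMul.isInvertible_tensorPow hL m
    let g := res L (le_top : G ≤ ⊤) (ProjMor.pull1 f (PicPn.X_mem (k := k) l))
    have h1t : ∀ t : Γ(L, ⊤), ∃ a : Γ(CohB1.ProjSpace n k, chart k l),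
        res L (le_top : G ≤ ⊤) t = (f.appLE (chart k l) G hG).hom a • g := fun t => by
      obtain ⟨c, rfl⟩ := hsurj t
      exact ⟨_, ProjMor.res_pull1 f (PicPn.X_mem (k := k) l) (ProjMor.linForms_mem n k c) hG⟩
    let good : Γ(CohB1.tensorMod (CohB1.tensorPow L m) L, ⊤) → Prop := fun W => ∃ a,
      res _ (le_top : G ≤ ⊤) W = (f.appLE (chart k l) G hG).hom a • tm (TMul.pw g m) g
    have hadd : ∀ a b, good a → good b → good (a + b) := fun a b ⟨x, hx⟩ ⟨y, hy⟩ => ⟨x + y, by
      rw [map_add, map_add, hx, hy, add_smul]⟩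
    have hprod : ∀ (p : Γ(CohB1.tensorPow L m, ⊤)) (t : Γ(L, ⊤)), good (tm p t) := fun p t => by
      obtain ⟨x, hx⟩ := ih p
      obtain ⟨y, hy⟩ := h1t t
      refine ⟨x * y, ?_⟩
      rw [TMul.res_tm, hx, hy, TMul.smul_tm, TMul.tm_smul, smul_smul, map_mul]
    -- the divisor of a section
    obtain ⟨s, hs⟩ := exists_section (k := k) (L := O1 f) (by
      have := h0_eq_of_deg hdim.le h0 hL (by omega)
      omega)
    have hO : Coh.IsCoh (Coh.structureModule X) := RefStalk.isCoh_structureModule
    haveI := mono_of_ne_zero TMul.isInvertible_structureModule hL s hs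
    have hC : Coh.IsCoh (cokernel s) := Groth.Agent.QC.isCoh_cokernel hO.1 (isCoh_of_inv hL) s
    have hcl := Groth.Agent.QC.isClosed_support hC.2
    have hd := dim_le_zero_of_closed hdim.le hcl (notMem_support_coker s _ (surjective_stalk_generic hL s hs))
    have hS : (ShortComplex.mk s (cokernel.π s) (cokernel.condition s)).ShortExact :=
      { exact := ShortComplex.exact_cokernel s, mono_f := inferInstance, epi_g := inferInstance }
    haveI := finite_proper k X (Coh.structureModule X) hO 1
    have hv : Subsingleton (Coh.HH X (Coh.structureModule X) 1) := Module.finrank_zero_iff.mp hg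
    have hsurj' : Function.Surjective ((cokernel.π s).app ⊤) := (surjective_hh0_iff (k := k) _).mp fun y => by
      have : y ∈ LinearMap.range (hhMap k (cokernel.π s) 0) :=
        (range_g_eq_ker_δ hS 0).ge (LinearMap.mem_ker.mpr (@Subsingleton.elim _ hv _ _))
      exact this
    haveI : Finite (CohB1.support (cokernel s)) := (finite_of_dim_le_zero (k := k) hcl hd).to_subtype
    haveI := Fintype.ofFinite (CohB1.support (cokernel s))
    have hsub := SuppZero.isClosed_of_subset hcl hd
    have hgen : ∀ x : CohB1.support (cokernel s), ∃ p : Γ(CohB1.tensorPow L m, ⊤),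
        x.1 ∈ CohB1.genLocus (CohB1.tensorPow L m) (homOf p) := fun x => by
      obtain ⟨t, ht⟩ := exists_gen_of_surjective hL (cokernel.π s) hsurj'
        (fun U a => SuppZero.exists_extend_global _ hsub U a) x.2
      refine ⟨TMul.val (SecTwist.powHom (homOf t) m) ⊤, ?_⟩
      rw [show homOf (TMul.val (SecTwist.powHom (homOf t) m) ⊤) = SecTwist.powHom (homOf t) m from
        TMul.hom_ext_val (by rw [val_homOf, res_self])]
      cases m with
      | zero => exact Opens.mem_sSup.mpr ⟨⊤, by
          change IsIso ((Scheme.Modules.restrictFunctor (⊤ : X.Opens).ι).map (𝟙 (Coh.structureModule X)))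
          rw [CategoryTheory.Functor.map_id]; infer_instance, trivial⟩
      | succ m => rw [TMul.genLocus_powHom hL]; exact ht
    let W₁ : Γ(CohB1.tensorMod L (CohB1.tensorPow L m), ⊤) :=
      (TMul.commIso (CohB1.tensorPow L m) L).hom.app ⊤ W
    obtain ⟨lf, pf, hlp⟩ := exists_tmap_family (cokernel.π s) hsurj' hsub (suppIn_of_subset le_rfl) hgen
      ((tmap (cokernel.π s) (CohB1.tensorPow L m)).app ⊤ W₁)
    have hz : (tmap (cokernel.π s) (CohB1.tensorPow L m)).app ⊤ (W₁ - ∑ x, tm (lf x) (pf x)) = 0 := by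
      rw [map_sub, hlp, sub_self]
    obtain ⟨u, hu⟩ := Groth.Agent.SiteCoh.sections_exact (shortExact_toAb (shortExact_tmap hP hS)) ⊤ _ hz
    have hu : (tmap s (CohB1.tensorPow L m)).app ⊤ u = W₁ - ∑ x, tm (lf x) (pf x) := hu
    let u' := (TMul.leftUnitIso (CohB1.tensorPow L m)).hom.app ⊤ u
    have hu' : u = tm (M := Coh.structureModule X) (1 : Γ(X, ⊤)) u' := by
      refine (ConcreteCategory.bijective_of_isIso ((TMul.leftUnitIso (CohB1.tensorPow L m)).hom.app ⊤)).1 ?_
      rw [leftUnitIso_tm, one_smul]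
    rw [hu', tmap_tm] at hu
    have hW₁ : W₁ = tm (s.app ⊤ (1 : Γ(X, ⊤))) u' + ∑ x, tm (lf x) (pf x) := by rw [hu, sub_add_cancel]
    have hW : W = (TMul.commIso L (CohB1.tensorPow L m)).hom.app ⊤ W₁ := by
      have : (TMul.commIso (CohB1.tensorPow L m) L).hom ≫ (TMul.commIso L (CohB1.tensorPow L m)).hom = 𝟙 _ :=
        TMul.hom_ext fun U a b => by
          show (TMul.commHom L (CohB1.tensorPow L m)).app U ((TMul.commHom (CohB1.tensorPow L m) L).app U (tm a b)) = tm a b
          rw [TMul.commHom_tm, TMul.commHom_tm]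
      exact (ConcreteCategory.congr_hom (congrArg (fun ψ => Scheme.Modules.Hom.app ψ ⊤) this) W).symm
    have hgood : good W := by
      rw [hW, hW₁, map_add, map_sum]
      refine hadd _ _ ?_ (Finset.sum_induction _ good hadd ⟨0, by rw [map_zero, map_zero, zero_smul]⟩ fun x _ => ?_)
      · show good ((TMul.commHom L (CohB1.tensorPow L m)).app ⊤ (tm (s.app ⊤ (1 : Γ(X, ⊤))) u'))
        rw [TMul.commHom_tm]; exact hprod _ _
      · show good ((TMul.commHom L (CohB1.tensorPow L m)).app ⊤ (tm (lf x) (pf x)))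
        rw [TMul.commHom_tm]; exact hprod _ _
    exact hgood

include hdim hf h0 hg hdeg hsurj in
theorem app_surjective (l : Fin (n + 1)) : Function.Surjective (f.app (chart k l)) := by
  haveI := isNoetherian_of_proper k X
  haveI := isProper_f f hf
  let L := O1 f
  let s := homOf (ProjMor.pull1 f (PicPn.X_mem (k := k) l))
  have hG : CohB1.genLocus L s = f ⁻¹ᵁ chart k l :=
    ProjMor.genLocus_pull1 (ProjMor.genDegOne_projSpace n k) f (PicPn.X_mem (k := k) l)
  suffices key : ∀ b : Γ(X, CohB1.genLocus L s), ∃ a, (f.appLE (chart k l) (CohB1.genLocus L s) hG.le).hom a = b by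
    intro b
    obtain ⟨a, ha⟩ := key (resO X hG.le b)
    refine ⟨a, ?_⟩
    have e : (f.appLE (chart k l) (CohB1.genLocus L s) hG.le).hom a = resO X hG.le ((f.app (chart k l)).hom a) := rfl
    have := congrArg (resO X hG.ge) (e.symm.trans ha)
    rwa [resO_resO, resO_resO, resO_self, resO_self] at this
  intro b
  haveI : (Coh.structureModule X).IsQuasicoherent := Groth.Agent.QC.isQCoh_unit X
  obtain ⟨m, -, t', ht'⟩ := TMul.exists_twist_extends (F := Coh.structureModule X) (isInvertible_O1 f) s b
  rw [TMul.twist_eq_tm s (one_smul _ _).symm, one_pow, one_smul] at ht'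
  obtain ⟨a, ha⟩ := coeff_of_power f hdim hf h0 hg hdeg hsurj l (CohB1.genLocus L s) hG.le m
    ((TMul.leftUnitIso (CohB1.tensorPow L m)).hom.app ⊤ t')
  refine ⟨a, ((TMul.isGen_pw (TMul.isGen_genLocus s) m) _ le_rfl).1 ?_⟩
  simp only [res_self]
  have e := congrArg ((TMul.leftUnitIso (CohB1.tensorPow L m)).hom.app (CohB1.genLocus L s)) ht'
  rw [← app_res, leftUnitIso_tm, ha] at e
  rw [show TMul.val s (CohB1.genLocus L s) = res L le_top (ProjMor.pull1 f (PicPn.X_mem (k := k) l)) from val_homOf _ _]
    at e ⊢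
  exact e

/-- Genus zero: positive degree is very ample. -/
theorem exists_closedImmersion_genus_zero (hdim : topologicalKrullDim X = 1)
    (h0 : h k (Coh.structureModule X) 0 = 1) (hg : Curv2.genus k X = 0) {L : X.Modules}
    (hL : PicF.IsInvertible L) {d : ℕ} (hd : 0 < d) (hdeg : Curv2.deg k X L 1 = d) :
    ∃ i : X ⟶ CohB1.ProjSpace d k, IsClosedImmersion i ∧
      i ≫ CohB1.ProjSpace.toSpec d k = X ↘ (Spec (CommRingCat.of k)) ∧
      Nonempty ((Scheme.Modules.pullback i).obj (Twist.twistProjSpace d k 1) ≅ L) := by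
  have hh := h0_eq_of_deg hdim.le h0 hL (by omega)
  have hn : h k L 0 = d + 1 := by omega
  obtain ⟨f, hf, ⟨τ⟩, hsurj⟩ := exists_map hdim h0 hL (by omega) hn
  have hdeg' : 0 < Curv2.deg k X (O1 f) 1 := by
    rw [Curv2.deg, show Curv2.euler k X (O1 f) = Curv2.euler k X L from euler_eq_of_iso τ, ← Curv2.deg]
    omega
  haveI := isFinite_f f hdim hf hdeg'
  exact ⟨f, isClosedImmersion_of_app_surjective f (app_surjective f hdim hf h0 hg hdeg' hsurj), hf, ⟨τ⟩⟩

end Groth.Agent.CurveVA
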