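import Groth.Agent.CurveVA.Key
import Groth.Agent.CurveRR.SmoothPt
import Groth.Agent.CurveRR.Ample
import Groth.Agent.PicPn.Chart
import Groth.Agent.ProjMor.Sym
import Groth.Agent.FpqcDescent.IdealGlue
import Mathlib.RingTheory.Nullstellensatz

/-!
A complete linear system of dimension `> g + 1` on a geometrically integral curve embeds it.
-/

set_option autoImplicit false
set_option backward.isDefEq.respectTransparency false
set_option linter.style.haveILetI false

universe u

open CategoryTheory CategoryTheory.Limits AlgebraicGeometry TopologicalSpace Opposite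
open Groth.Agent.CohFinite
open Groth.Agent.QC (res resO res_res res_self res_smul resO_resO resO_self section_eq_of_locally app_res)
open Groth.Agent.CurveRR
open TMul (IsGen homOf val_homOf tm)

noncomputable section

namespace Groth.Agent.CurveVA

attribute [local instance] secMod

variable {k : Type u} [Field k] {n : ℕ}

/-- The chart `x_l ≠ 0`. -/
abbrev chart (k : Type u) [Field k] {n : ℕ} (l : Fin (n + 1)) : (CohB1.ProjSpace n k).Opens :=
  PicPn.ch (k := k) l

theorem isAffineOpen_chart (l : Fin (n + 1)) : IsAffineOpen (chart k l) := PicPn.isAffineOpen_ch l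

variable {X : Scheme.{u}} [X.Over (Spec (CommRingCat.of k))] [IsProper (X ↘ Spec (CommRingCat.of k))]
  (f : X ⟶ CohB1.ProjSpace n k)

theorem isProper_f (hf : f ≫ CohB1.ProjSpace.toSpec n k = X ↘ Spec (CommRingCat.of k)) : IsProper f := by
  haveI := ProjMor.isProper_toSpec n k
  haveI : IsProper (f ≫ CohB1.ProjSpace.toSpec n k) := by rw [hf]; infer_instance
  exact IsProper.of_comp f (CohB1.ProjSpace.toSpec n k)

/-- Constants on a chart pull back to constants. -/
theorem app_cst (hf : f ≫ CohB1.ProjSpace.toSpec n k = X ↘ Spec (CommRingCat.of k))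
    (D : (CohB1.ProjSpace n k).Opens) (a : k) :
    (f.app D).hom (ZeroSch.cst k D a) = CurveRR.cst k X (f ⁻¹ᵁ D) a := by
  have h1 : Coh.toGlobal (X ↘ Spec (CommRingCat.of k)) a =
      f.appTop (Coh.toGlobal (CohB1.ProjSpace.toSpec n k) a) := by
    rw [← hf]
    show ((f ≫ CohB1.ProjSpace.toSpec n k).appTop).hom _ = _
    rw [Scheme.Hom.comp_appTop]
    rfl
  show (f.app D).hom (resO _ le_top (Coh.toGlobal (CohB1.ProjSpace.toSpec n k) a)) = resO X le_top _
  refine Eq.trans ?_ (congrArg (resO X (le_top : f ⁻¹ᵁ D ≤ ⊤)) h1.symm)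
  rw [← Scheme.Hom.appLE_eq_app]
  refine (ProjMor.ev_resO f (le_refl (f ⁻¹ᵁ D)) le_top _).trans ?_
  refine (ProjMor.ev_res f (le_refl (⊤ : X.Opens)) le_top _).symm.trans (congrArg (resO X le_top) ?_)
  refine congrArg (fun m => (CommRingCat.Hom.hom m) (Coh.toGlobal (CohB1.ProjSpace.toSpec n k) a)) ?_
  exact Scheme.Hom.appLE_eq_app f

/-- The pulled-back `O(1)`. -/
abbrev O1 : X.Modules := (Scheme.Modules.pullback f).obj (Twist.twist (CohB1.polyGrading n k) 1)

theorem isInvertible_O1 : PicF.IsInvertible (O1 f) :=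
  ProjMor.isInvertible_pull1 (ProjMor.genDegOne_projSpace n k) f

variable [IsIntegral X]

include k in
theorem isClosed_singleton_of_ne_generic (hdim : topologicalKrullDim X = 1) {x : X} (hx : x ≠ genericPoint X) :
    IsClosed ({x} : Set X) := by
  haveI := isNoetherian_of_proper k X
  have hη : genericPoint X ∉ closure ({x} : Set X) := fun h =>
    hx (((genericPoint_specializes x).antisymm (specializes_iff_mem_closure.mpr h)).eq.symm)
  exact SuppZero.isClosed_of_subset isClosed_closure (dim_le_zero_of_closed hdim.le isClosed_closure hη) {x}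
    subset_closure

variable (hdim : topologicalKrullDim X = 1) (hf : f ≫ CohB1.ProjSpace.toSpec n k = X ↘ Spec (CommRingCat.of k))
  (hdeg : 0 < Curv2.deg k X (O1 f) 1)

include hdim hf hdeg in
/-- The generic point does not map to a closed point. -/
theorem map_generic_ne {y : CohB1.ProjSpace n k} (hy : IsClosed ({y} : Set (CohB1.ProjSpace n k))) :
    f (genericPoint X) ≠ y := by
  intro he
  obtain ⟨l, hl⟩ := PicPn.exists_mem_ch (k := k) y
  have hall : ∀ x : X, f x = y := fun x => by
    have := ((genericPoint_specializes x).map f.continuous)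
    rw [he, specializes_iff_mem_closure, hy.closure_eq] at this
    exact this
  have htop : CohB1.genLocus (O1 f) (homOf (ProjMor.pull1 f (PicPn.X_mem (k := k) l))) = ⊤ := by
    rw [ProjMor.genLocus_pull1 (ProjMor.genDegOne_projSpace n k) f]
    exact top_le_iff.mp fun x _ => show f x ∈ PicPn.ch l by rw [hall x]; exact hl
  set s := homOf (ProjMor.pull1 f (PicPn.X_mem (k := k) l)) with hs
  have hg : IsGen (TMul.val s ⊤) := by
    have h := TMul.isGen_genLocus s
    rwa [htop] at h
  haveI : IsIso s := GrT.isIso_of_locally s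
    (fun U a b hab => (hg U le_top).1 (by
      simpa only [TMul.app_eq_smul, TMul.res_val] using hab))
    fun U t x hx => ⟨U, le_rfl, hx, by
      obtain ⟨a, ha⟩ := (hg U le_top).2 t
      exact ⟨a, by rw [res_self, TMul.app_eq_smul, ← ha]; simp only [TMul.res_val]⟩⟩
  have := euler_eq_of_iso (k := k) (asIso s)
  rw [Curv2.deg, ← this] at hdeg
  push_cast at hdeg
  omega

include hdim hf hdeg in
theorem isFinite_f : IsFinite f := by
  haveI := isNoetherian_of_proper k X
  haveI := isProper_f f hf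
  haveI : LocallyQuasiFinite f := by
    refine LocallyQuasiFinite.of_finite_preimage_singleton _ fun y => ?_
    by_cases hη : f (genericPoint X) = y
    · refine (Set.finite_singleton (genericPoint X)).subset fun x hx => ?_
      by_contra hne
      have hy : IsClosed ({y} : Set (CohB1.ProjSpace n k)) := by
        have := f.isClosedMap _ (isClosed_singleton_of_ne_generic (k := k) hdim hne)
        rwa [Set.image_singleton, show f x = y from hx] at this
      exact map_generic_ne f hdim hf hdeg hy hη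
    · have hpre : IsClosed (f ⁻¹' closure {y}) := isClosed_closure.preimage f.continuous
      by_cases hη' : genericPoint X ∈ f ⁻¹' closure {y}
      · -- then every point of the fibre would be generic
        refine Set.Finite.subset (Set.finite_singleton (genericPoint X)) fun x hx => ?_
        by_contra hne
        have hy : IsClosed ({y} : Set (CohB1.ProjSpace n k)) := by
          have := f.isClosedMap _ (isClosed_singleton_of_ne_generic (k := k) hdim hne)
          rwa [Set.image_singleton, show f x = y from hx] at this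
        exact hη (Set.mem_singleton_iff.mp (hy.closure_eq.le hη'))
      · exact (finite_of_dim_le_zero (k := k) hpre (dim_le_zero_of_closed hdim.le hpre hη')).subset
          (Set.preimage_mono subset_closure)
  exact IsFinite.of_isProper_of_locallyQuasiFinite f

section Fibre

variable (hsurj : ∀ t : Γ(O1 f, ⊤), ∃ c : Fin (n + 1) → k, t = ProjMor.pull1 f (ProjMor.linForms_mem n k c))
  (hfib : ∀ {I : X.IdealSheafData} {K : Type u} [Field K] [Algebra k K] [Module.Finite k K],
    topologicalKrullDim (I.support : Set X) ≤ 0 → ∀ (ι : K →+* Γ(I.subscheme, I.subschemeι ⁻¹ᵁ ⊤)),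
    (∀ a : k, ι (algebraMap k K a) = (I.subschemeι.app ⊤).hom (CurveRR.cst k X ⊤ a)) →
    Module.finrank k K < h k (ClSub.quotMod I) 0 → ∀ g0 : Γ(O1 f, ⊤),
    (∀ s : Γ(O1 f, ⊤), ∃ c : K, tm (qmap ι 1) s = tm (qmap ι c) g0) → False)

include hdim hf hdeg hsurj hfib in
/-- Functions on the preimage of a chart come from the chart, modulo the fibre. -/
theorem exists_mod_max_of (l : Fin (n + 1)) (p : Ideal Γ(CohB1.ProjSpace n k, chart k l)) [hp : p.IsMaximal]
    (b : Γ(X, f ⁻¹ᵁ chart k l)) :
    ∃ a, b - (f.app (chart k l)).hom a ∈ p.map (f.app (chart k l)).hom := by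
  classical
  haveI := isNoetherian_of_proper k X
  haveI := isFinite_f f hdim hf hdeg
  haveI := ProjMor.isProper_toSpec n k
  haveI : IsProper (CohB1.ProjSpace n k ↘ Spec (CommRingCat.of k)) := ProjMor.isProper_toSpec n k
  by_contra hno
  push Not at hno
  let hU := isAffineOpen_chart (k := k) l
  let hV : IsAffineOpen (f ⁻¹ᵁ chart k l) := hU.preimage f
  let A := Γ(CohB1.ProjSpace n k, chart k l)
  haveI : JacobsonSpace (CohB1.ProjSpace n k) :=
    LocallyOfFiniteType.jacobsonSpace (CohB1.ProjSpace.toSpec n k)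
  let y : CohB1.ProjSpace n k := hU.fromSpec ⟨p, hp.isPrime⟩
  have hy : IsClosed ({y} : Set (CohB1.ProjSpace n k)) := by
    have h : (⟨p, hp.isPrime⟩ : PrimeSpectrum A) ∈ closedPoints (PrimeSpectrum A) :=
      (PrimeSpectrum.isClosed_singleton_iff_isMaximal _).2 hp
    exact (hU.fromSpec.isOpenEmbedding.preimage_closedPoints).ge h
  have hyU : y ∈ chart k l := hU.range_fromSpec.le ⟨⟨p, hp.isPrime⟩, rfl⟩
  let J := Scheme.IdealSheafData.vanishingIdeal (⟨{y}, hy⟩ : Closeds (CohB1.ProjSpace n k))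
  let I := J.comap f
  have hJ : J.ideal (⟨chart k l, hU⟩ : (CohB1.ProjSpace n k).affineOpens) = p := by
    simp only [J, Scheme.IdealSheafData.vanishingIdeal_ideal]
    show PrimeSpectrum.vanishingIdeal (hU.fromSpec ⁻¹' ({y} : Set (CohB1.ProjSpace n k))) = p
    rw [show hU.fromSpec ⁻¹' ({y} : Set (CohB1.ProjSpace n k)) = {⟨p, hp.isPrime⟩} from ?_,
      PrimeSpectrum.vanishingIdeal_singleton]
    ext q
    simp only [Set.mem_preimage, Set.mem_singleton_iff]
    exact ⟨fun h => hU.fromSpec.isOpenEmbedding.injective h, fun h => h ▸ rfl⟩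
  have hIV : I.ideal (⟨f ⁻¹ᵁ chart k l, hV⟩ : X.affineOpens) = p.map (f.app (chart k l)).hom := by
    rw [Groth.Agent.FpqcDescent.ideal_comap_appLE J f (⟨chart k l, hU⟩ : (CohB1.ProjSpace n k).affineOpens) (⟨f ⁻¹ᵁ chart k l, hV⟩ : X.affineOpens) le_rfl, hJ, Scheme.Hom.appLE_eq_app]
  have hsupp : (I.support : Set X) = f ⁻¹' {y} := by
    simp [I, J, Scheme.IdealSheafData.support_comap]
  have hsd : topologicalKrullDim (I.support : Set X) ≤ 0 := dim_le_zero_of_closed hdim.le I.support.isClosed
    (by rw [hsupp]; exact fun h => map_generic_ne f hdim hf hdeg hy h)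
  have hsV : ∀ x ∈ (I.support : Set X), x ∈ f ⁻¹ᵁ chart k l := fun x hx => by
    rw [hsupp] at hx
    show f x ∈ chart k l
    rw [show f x = y from hx]; exact hyU
  have hpre : I.subschemeι ⁻¹ᵁ (f ⁻¹ᵁ chart k l) = I.subschemeι ⁻¹ᵁ ⊤ :=
    le_antisymm (fun _ _ => trivial) fun z _ => hsV _ (I.range_subschemeι.le ⟨z, rfl⟩)
  let π : Γ(X, f ⁻¹ᵁ chart k l) →+* Γ(I.subscheme, I.subschemeι ⁻¹ᵁ ⊤) :=
    (resO I.subscheme hpre.ge).comp (I.subschemeι.app (f ⁻¹ᵁ chart k l)).hom
  have hres : ∀ z : Γ(I.subscheme, I.subschemeι ⁻¹ᵁ (f ⁻¹ᵁ chart k l)),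
      resO I.subscheme hpre.le (resO I.subscheme hpre.ge z) = z := fun z => by rw [resO_resO, resO_self]
  have hπs : Function.Surjective π := fun z => by
    obtain ⟨b, hb⟩ := Groth.Agent.KoszulLib.app_surjective I.subschemeι (U := ⟨_, hV⟩)
      (IsZariskiLocalAtTarget.restrict (P := @IsClosedImmersion) (inferInstance : IsClosedImmersion I.subschemeι) _)
      (resO I.subscheme hpre.le z)
    refine ⟨b, ?_⟩
    show resO I.subscheme hpre.ge ((I.subschemeι.app _).hom b) = z
    rw [show (I.subschemeι.app (f ⁻¹ᵁ chart k l)).hom b = resO I.subscheme hpre.le z from hb, resO_resO, resO_self]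
  have hπk : ∀ b, π b = 0 ↔ b ∈ p.map (f.app (chart k l)).hom := fun b => by
    rw [← hIV, ← I.ker_subschemeι_app, RingHom.mem_ker]
    refine ⟨fun h => ?_, fun h => ?_⟩
    · have := congrArg (resO I.subscheme hpre.le) h
      rwa [show π b = resO I.subscheme hpre.ge ((I.subschemeι.app _).hom b) from rfl, hres, map_zero] at this
    · show resO I.subscheme hpre.ge ((I.subschemeι.app _).hom b) = 0
      rw [h, map_zero]
  letI : Algebra k A := (ZeroSch.cst k (chart k l)).toAlgebra
  haveI : Algebra.FiniteType k A := by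
    have := ZeroSch.finiteType_cst (k := k) hU
    exact this
  letI : Field (A ⧸ p) := Ideal.Quotient.field p
  haveI : Algebra.FiniteType k (A ⧸ p) :=
    (inferInstance : Algebra.FiniteType k A).of_surjective (Ideal.Quotient.mkₐ k p) (Ideal.Quotient.mkₐ_surjective k p)
  haveI : Module.Finite k (A ⧸ p) := finite_of_finite_type_of_isJacobsonRing k (A ⧸ p)
  let ι : A ⧸ p →+* Γ(I.subscheme, I.subschemeι ⁻¹ᵁ ⊤) :=
    Ideal.Quotient.lift p (π.comp (f.app (chart k l)).hom) fun a ha => (hπk _).mpr (Ideal.mem_map_of_mem _ ha)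
  have hι : ∀ a : k, ι (algebraMap k (A ⧸ p) a) = (I.subschemeι.app ⊤).hom (CurveRR.cst k X ⊤ a) := fun a => by
    show π ((f.app (chart k l)).hom (ZeroSch.cst k (chart k l) a)) = _
    rw [app_cst f hf]
    show resO I.subscheme hpre.ge ((I.subschemeι.app (f ⁻¹ᵁ chart k l)).hom (CurveRR.cst k X _ a)) = _
    rw [show CurveRR.cst k X (f ⁻¹ᵁ chart k l) a = resO X le_top (CurveRR.cst k X ⊤ a) from
      (resO_resO (le_top : f ⁻¹ᵁ chart k l ≤ ⊤) (le_top : (⊤ : X.Opens) ≤ ⊤) _).symm]
    have e := congrArg (fun m : Γ(X, ⊤) ⟶ Γ(I.subscheme, I.subschemeι ⁻¹ᵁ (f ⁻¹ᵁ chart k l)) => m.hom (CurveRR.cst k X ⊤ a))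
      (I.subschemeι.naturality (homOfLE (le_top : f ⁻¹ᵁ chart k l ≤ ⊤)).op)
    rw [show (I.subschemeι.app (f ⁻¹ᵁ chart k l)).hom (resO X le_top (CurveRR.cst k X ⊤ a)) =
      resO I.subscheme (hpre.le : _ ≤ I.subschemeι ⁻¹ᵁ ⊤) ((I.subschemeι.app ⊤).hom (CurveRR.cst k X ⊤ a)) from e,
      resO_resO, resO_self]
  have hQf := finite_proper k X _ (isCoh_idealMod I).2 0
  haveI : Module.Finite k Γ(ClSub.quotMod I, ⊤) := Module.Finite.equiv (secH0 (k := k) (ClSub.quotMod I)).symm
  haveI : Nontrivial Γ(I.subscheme, I.subschemeι ⁻¹ᵁ ⊤) := by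
    by_contra htriv
    rw [not_nontrivial_iff_subsingleton] at htriv
    refine hno 0 ?_
    rw [← hπk]
    exact @Subsingleton.elim _ htriv _ _
  let qL : (A ⧸ p) →ₗ[k] Γ(ClSub.quotMod I, ⊤) :=
    { toFun := qmap ι
      map_add' := map_add ι
      map_smul' := fun a c => by
        show ι (a • c) = (I.subschemeι.app ⊤).hom (CurveRR.cst k X ⊤ a) * ι c
        rw [Algebra.smul_def, map_mul, hι] }
  have hQ : Module.finrank k (A ⧸ p) < h k (ClSub.quotMod I) 0 := by
    rw [← finrank_sec, ← LinearMap.finrank_range_of_inj (f := qL) ι.injective]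
    refine Submodule.finrank_lt fun htop => ?_
    obtain ⟨c, hc⟩ := LinearMap.range_eq_top.mp htop (π b : Γ(ClSub.quotMod I, ⊤))
    obtain ⟨a, rfl⟩ := Ideal.Quotient.mk_surjective c
    refine hno a ((hπk _).mp ?_)
    rw [map_sub, sub_eq_zero]
    exact hc.symm
  refine hfib hsd ι hι hQ
    (ProjMor.pull1 f (PicPn.X_mem (k := k) l)) fun t => ?_
  obtain ⟨c, rfl⟩ := hsurj t
  let e : A := GrT.deh (CohB1.polyGrading n k) (PicPn.X_mem l) (ProjMor.linForms n k c)
  refine ⟨Ideal.Quotient.mk p e, section_eq_of_locally fun x _ => ?_⟩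
  by_cases hx : x ∈ (I.support : Set X)
  · refine ⟨f ⁻¹ᵁ chart k l, le_top, hsV x hx, ?_⟩
    rw [TMul.res_tm, TMul.res_tm,
      ProjMor.res_pull1 f (PicPn.X_mem (k := k) l) (ProjMor.linForms_mem n k c) (le_refl (f ⁻¹ᵁ chart k l))]
    rw [TMul.tm_smul, ← TMul.smul_tm]
    refine congrArg (fun q => tm q _) ?_
    show (I.subschemeι.app (f ⁻¹ᵁ chart k l)).hom ((f.appLE (chart k l) (f ⁻¹ᵁ chart k l) le_rfl).hom e) *
        resO I.subscheme hpre.le (ι 1) = resO I.subscheme hpre.le (ι (Ideal.Quotient.mk p e))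
    rw [map_one, map_one, mul_one, Scheme.Hom.appLE_eq_app]
    exact (hres _).symm
  · refine ⟨⟨(I.support : Set X)ᶜ, I.support.isClosed.isOpen_compl⟩, le_top, hx, ?_⟩
    have hS : SuppIn (CohB1.tensorMod (ClSub.quotMod I) (O1 f)) (I.support : Set X) :=
      suppIn_tensor (suppIn_of_subset (support_quotMod I)) _
    exact (hS _ _ fun z hz => hz).trans (hS _ _ fun z hz => hz).symm

include hdim hf hdeg hsurj hfib in
theorem isClosedImmersion_of_fibre : IsClosedImmersion f := by
  haveI := isFinite_f f hdim hf hdeg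
  refine IsZariskiLocalAtTarget.of_iSup_eq_top (fun l : Fin (n + 1) => chart k l)
    (top_le_iff.mp fun y _ => Opens.mem_iSup.mpr (PicPn.exists_mem_ch y)) fun l => ?_
  have hV := isAffineOpen_chart (k := k) l
  have hU : IsAffineOpen (f ⁻¹ᵁ chart k l) := hV.preimage f
  haveI : IsAffine (chart k l).toScheme := hV
  haveI : IsAffine (f ⁻¹ᵁ chart k l).toScheme := hU
  suffices hs : Function.Surjective (f.app (chart k l)) by
    refine IsClosedImmersion.of_surjective_of_isAffine _ ?_
    rw [morphismRestrict_appTop]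
    have hbot : (chart k l).ι ''ᵁ ⊤ = chart k l := by simp
    have hs' : ∀ (W : (CohB1.ProjSpace n k).Opens), W = chart k l → Function.Surjective (f.app W) :=
      fun W hW => hW ▸ hs
    exact (ConcreteCategory.bijective_of_isIso
      (X.presheaf.map (eqToHom (image_morphismRestrict_preimage f (chart k l) ⊤)).op)).2.comp (hs' _ hbot)
  algebraize [(f.app (chart k l)).hom]
  haveI : Module.Finite Γ(CohB1.ProjSpace n k, chart k l) Γ(X, f ⁻¹ᵁ chart k l) := f.finite_app _ hV
  let A := Γ(CohB1.ProjSpace n k, chart k l)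
  let B := Γ(X, f ⁻¹ᵁ chart k l)
  let C := B ⧸ LinearMap.range (Algebra.linearMap A B)
  haveI : Module.Finite A C := inferInstance
  have hC : ∀ (p : Ideal A), p.IsMaximal → (⊤ : Submodule A C) ≤ p • ⊤ := by
    intro p hp c _
    obtain ⟨b, rfl⟩ := Submodule.Quotient.mk_surjective _ c
    obtain ⟨a, ha⟩ := exists_mod_max_of f hdim hf hdeg hsurj hfib l p (hp := hp) b
    have hmk : Submodule.Quotient.mk b = (Submodule.Quotient.mk (b - algebraMap A B a) : C) := by
      rw [Submodule.Quotient.eq, sub_sub_cancel]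
      exact ⟨a, rfl⟩
    rw [hmk]
    have : (b - algebraMap A B a : B) ∈ (p • ⊤ : Submodule A B) := by
      rw [Ideal.smul_top_eq_map]; exact ha
    have h2 := Submodule.mem_map_of_mem (f := (LinearMap.range (Algebra.linearMap A B)).mkQ) this
    rw [Submodule.map_smul''] at h2
    exact Submodule.smul_mono le_rfl le_top h2
  have hann : Module.annihilator A C = ⊤ := by
    by_contra hne
    obtain ⟨p, hp, hle⟩ := Ideal.exists_le_maximal _ hne
    obtain ⟨r, hr, hr'⟩ := Submodule.exists_sub_one_mem_and_smul_eq_zero_of_fg_of_le_smul p ⊤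
      Module.Finite.fg_top (hC p hp)
    have hrp : r ∈ p := hle (Module.mem_annihilator.2 fun c => hr' c trivial)
    exact hp.ne_top ((Ideal.eq_top_iff_one p).2 (by simpa using p.sub_mem hrp hr))
  intro b
  have h1 := Module.mem_annihilator.1 (hann.symm ▸ (Submodule.mem_top : (1 : A) ∈ ⊤))
    (Submodule.Quotient.mk b)
  rw [one_smul] at h1
  obtain ⟨a, ha⟩ := (Submodule.Quotient.mk_eq_zero _).1 h1
  exact ⟨a, ha⟩

end Fibre

variable [GeometricallyIntegral (X ↘ Spec (CommRingCat.of k))]
  (hbig : Curv2.genus k X + 1 < h k (O1 f) 0)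
  (hsurj : ∀ t : Γ(O1 f, ⊤), ∃ c : Fin (n + 1) → k, t = ProjMor.pull1 f (ProjMor.linForms_mem n k c))

include hdim hf hdeg hbig hsurj in
/-- Functions on the preimage of a chart come from the chart, modulo the fibre. -/
theorem exists_mod_max (l : Fin (n + 1)) (p : Ideal Γ(CohB1.ProjSpace n k, chart k l)) [hp : p.IsMaximal]
    (b : Γ(X, f ⁻¹ᵁ chart k l)) :
    ∃ a, b - (f.app (chart k l)).hom a ∈ p.map (f.app (chart k l)).hom :=
  exists_mod_max_of f hdim hf hdeg hsurj
    (fun hI ι hι hQ g0 hs => false_of_fibre (k := k) hdim.le (isInvertible_O1 f) hbig hI ι hι hQ g0 hs) l p b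

include hdim hf hdeg hbig hsurj in
theorem isClosedImmersion_f : IsClosedImmersion f :=
  isClosedImmersion_of_fibre f hdim hf hdeg hsurj
    (fun hI ι hι hQ g0 hs => false_of_fibre (k := k) hdim.le (isInvertible_O1 f) hbig hI ι hι hQ g0 hs)

end Groth.Agent.CurveVA
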