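import Groth.Agent.CurveVA.Criterion
import Groth.Agent.CurveRR.GlobGen

/-!
Invertible modules of degree `≥ 2g+1` on geometrically integral curves are very ample.
-/

set_option autoImplicit false
set_option backward.isDefEq.respectTransparency false
set_option linter.style.haveILetI false

universe u

open CategoryTheory CategoryTheory.Limits AlgebraicGeometry TopologicalSpace Opposite
open Groth.Agent.CohFinite
open Groth.Agent.QC (res resO res_res res_self res_smul resO_resO resO_self app_res)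
open Groth.Agent.WeakAssLib (mgerm mgerm_res mgerm_smul)
open Groth.Agent.CurveRR
open TMul (IsGen homOf val_homOf)

noncomputable section

namespace Groth.Agent.CurveVA

attribute [local instance] secMod

/-- Global sections whose loci cover generate. -/
theorem generatedBy_of_basis {k : Type u} [Field k] {X : Scheme.{u}} [X.Over (Spec (CommRingCat.of k))]
    {L : X.Modules} {m : ℕ} (b : Module.Basis (Fin m) k Γ(L, ⊤))
    (h : ∀ x : X, ∃ t : Γ(L, ⊤), x ∈ CohB1.genLocus L (homOf t)) :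
    ProjUP.GeneratedBy L fun i => b i := fun x => by
  obtain ⟨t, ht⟩ := h x
  refine eq_top_iff.mpr fun v _ => ?_
  have hg : IsGen (res L (le_top : CohB1.genLocus L (homOf t) ≤ ⊤) t) := by
    have h := TMul.isGen_genLocus (homOf t)
    rwa [val_homOf] at h
  obtain ⟨r, hr⟩ := ZeroSch.exists_smul_germ hg ht v
  rw [hr, mgerm_res L le_top ht]
  refine Submodule.smul_mem _ r ?_
  suffices hall : ∀ u : Γ(L, ⊤), mgerm L (show x ∈ (⊤ : X.Opens) from trivial) u ∈ Submodule.span (X.presheaf.stalk x)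
      (Set.range fun i => (L.presheaf.germ ⊤ x trivial).hom (b i)) from hall t
  intro u
  rw [← b.sum_repr u, map_sum]
  refine Submodule.sum_mem _ fun i _ => ?_
  rw [show b.repr u i • b i = CurveRR.cst k X ⊤ (b.repr u i) • b i from rfl, mgerm_smul]
  exact Submodule.smul_mem _ _ (Submodule.subset_span ⟨i, rfl⟩)

/-- Very ampleness in degree `≥ 2g + 1`. -/
theorem exists_closedImmersion {k : Type u} [Field k] {X : Scheme.{u}} [X.Over (Spec (CommRingCat.of k))]
    [IsProper (X ↘ Spec (CommRingCat.of k))] [GeometricallyIntegral (X ↘ Spec (CommRingCat.of k))]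
    (hdim : topologicalKrullDim X = 1) (h0 : h k (Coh.structureModule X) 0 = 1) {L : X.Modules}
    (hL : PicF.IsInvertible L) (hdeg : 2 * (Curv2.genus k X : ℤ) + 1 ≤ Curv2.deg k X L 1) :
    ∃ (n : ℕ) (i : X ⟶ CohB1.ProjSpace n k), IsClosedImmersion i ∧
      i ≫ CohB1.ProjSpace.toSpec n k = X ↘ (Spec (CommRingCat.of k)) ∧
      Nonempty ((Scheme.Modules.pullback i).obj (Twist.twistProjSpace n k 1) ≅ L) := by
  haveI : Subsingleton (Spec (CommRingCat.of k)) := inferInstanceAs (Subsingleton (PrimeSpectrum k))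
  haveI : IsIntegral X := GeometricallyIntegral.isIntegral_of_subsingleton (X ↘ Spec (CommRingCat.of k))
  haveI := isNoetherian_of_proper k X
  have hh := h0_eq_of_deg hdim.le h0 hL (by omega)
  have hbig : Curv2.genus k X + 1 < h k L 0 := by omega
  haveI := finite_proper k X _ (isCoh_of_inv hL) 0
  haveI : Module.Finite k Γ(L, ⊤) := Module.Finite.equiv (secH0 (k := k) L).symm
  obtain ⟨n, hn⟩ : ∃ n, Module.finrank k Γ(L, ⊤) = n + 1 := ⟨h k L 0 - 1, by rw [finrank_sec]; omega⟩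
  let b : Module.Basis (Fin (n + 1)) k Γ(L, ⊤) := (Module.finBasis k Γ(L, ⊤)).reindex (finCongr hn)
  have hgen : ∀ x : X, ∃ t : Γ(L, ⊤), x ∈ CohB1.genLocus L (homOf t) := fun x => by
    obtain ⟨z, hz, hzc⟩ := (isClosed_closure (s := ({x} : Set X))).exists_closed_singleton ⟨x, subset_closure rfl⟩
    obtain ⟨t, ht⟩ := exists_mem_genLocus (k := k) hdim.le h0 hL (by omega) hzc
    exact ⟨t, (specializes_iff_mem_closure.mpr hz).mem_open (CohB1.genLocus L (homOf t)).2 ht⟩
  obtain ⟨f, hf, τ, hτ⟩ := ProjMor.exists_projSpace (X ↘ Spec (CommRingCat.of k)) hL (fun i => b i)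
    (generatedBy_of_basis b hgen)
  have hsurj : ∀ t : Γ(O1 f, ⊤), ∃ c : Fin (n + 1) → k, t = ProjMor.pull1 f (ProjMor.linForms_mem n k c) :=
    fun t => ⟨fun i => b.repr (τ.hom.app ⊤ t) i, (ConcreteCategory.bijective_of_isIso (τ.hom.app ⊤)).1 (by
      conv_lhs => rw [← b.sum_repr (τ.hom.app ⊤ t)]
      rw [ProjMor.pull1_linForms, hf, map_sum]
      refine Finset.sum_congr rfl fun i _ => ?_
      refine Eq.trans ?_ (TMul.app_smul τ.hom _ _).symm
      refine Eq.trans ?_ (congrArg (fun s : Γ(L, ⊤) =>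
        ProjUP.toGlobal (X ↘ Spec (CommRingCat.of k)) (b.repr (τ.hom.app ⊤ t) i) • s) (hτ i)).symm
      show CurveRR.cst k X ⊤ (b.repr (τ.hom.app ⊤ t) i) • b i = _
      exact congrArg (fun c : Γ(X, ⊤) => c • b i) (resO_self (le_top : (⊤ : X.Opens) ≤ ⊤) _))⟩
  refine ⟨n, f, isClosedImmersion_f f hdim hf ?_ ?_ hsurj, hf, ⟨τ⟩⟩
  · rw [Curv2.deg, show Curv2.euler k X (O1 f) = Curv2.euler k X L from euler_eq_of_iso τ, ← Curv2.deg]
    omega
  · rw [show h k (O1 f) 0 = h k L 0 from h_eq_of_iso τ 0]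
    exact hbig

/-- The map of the complete linear system in degree `≥ 2g`. -/
theorem exists_map {k : Type u} [Field k] {X : Scheme.{u}} [X.Over (Spec (CommRingCat.of k))]
    [IsProper (X ↘ Spec (CommRingCat.of k))] [IsIntegral X]
    (hdim : topologicalKrullDim X = 1) (h0 : h k (Coh.structureModule X) 0 = 1) {L : X.Modules}
    (hL : PicF.IsInvertible L) (hdeg : 2 * (Curv2.genus k X : ℤ) ≤ Curv2.deg k X L 1) {n : ℕ}
    (hn : h k L 0 = n + 1) :
    ∃ (f : X ⟶ CohB1.ProjSpace n k), f ≫ CohB1.ProjSpace.toSpec n k = X ↘ (Spec (CommRingCat.of k)) ∧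
      Nonempty (O1 f ≅ L) ∧
      ∀ t : Γ(O1 f, ⊤), ∃ c : Fin (n + 1) → k, t = ProjMor.pull1 f (ProjMor.linForms_mem n k c) := by
  haveI := isNoetherian_of_proper k X
  haveI := finite_proper k X _ (isCoh_of_inv hL) 0
  haveI : Module.Finite k Γ(L, ⊤) := Module.Finite.equiv (secH0 (k := k) L).symm
  have hn' : Module.finrank k Γ(L, ⊤) = n + 1 := (finrank_sec L).trans hn
  let b : Module.Basis (Fin (n + 1)) k Γ(L, ⊤) := (Module.finBasis k Γ(L, ⊤)).reindex (finCongr hn')
  have hgen : ∀ x : X, ∃ t : Γ(L, ⊤), x ∈ CohB1.genLocus L (homOf t) := fun x => by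
    obtain ⟨z, hz, hzc⟩ := (isClosed_closure (s := ({x} : Set X))).exists_closed_singleton ⟨x, subset_closure rfl⟩
    obtain ⟨t, ht⟩ := exists_mem_genLocus (k := k) hdim.le h0 hL hdeg hzc
    exact ⟨t, (specializes_iff_mem_closure.mpr hz).mem_open (CohB1.genLocus L (homOf t)).2 ht⟩
  obtain ⟨f, hf, τ, hτ⟩ := ProjMor.exists_projSpace (X ↘ Spec (CommRingCat.of k)) hL (fun i => b i)
    (generatedBy_of_basis b hgen)
  refine ⟨f, hf, ⟨τ⟩, fun t => ⟨fun i => b.repr (τ.hom.app ⊤ t) i, (ConcreteCategory.bijective_of_isIso (τ.hom.app ⊤)).1 (by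
      conv_lhs => rw [← b.sum_repr (τ.hom.app ⊤ t)]
      rw [ProjMor.pull1_linForms, hf, map_sum]
      refine Finset.sum_congr rfl fun i _ => ?_
      refine Eq.trans ?_ (TMul.app_smul τ.hom _ _).symm
      refine Eq.trans ?_ (congrArg (fun s : Γ(L, ⊤) =>
        ProjUP.toGlobal (X ↘ Spec (CommRingCat.of k)) (b.repr (τ.hom.app ⊤ t) i) • s) (hτ i)).symm
      show CurveRR.cst k X ⊤ (b.repr (τ.hom.app ⊤ t) i) • b i = _
      exact congrArg (fun c : Γ(X, ⊤) => c • b i) (resO_self (le_top : (⊤ : X.Opens) ≤ ⊤) _))⟩⟩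

end Groth.Agent.CurveVA
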