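import Groth.Agent.CurveVA.Domain
import Groth.Agent.CurveRR.Series
import Groth.Agent.CurveRR.GlobGen
import Groth.Agent.Devissage.Power

/-!
The fibre inequality behind very ampleness: on a geometrically integral curve, a linear system of dimension
exceeding `g + 1` cannot map a finite subscheme onto a point with strictly smaller degree.
-/

set_option autoImplicit false
set_option backward.isDefEq.respectTransparency false
set_option linter.style.haveILetI false

universe u

open CategoryTheory CategoryTheory.Limits AlgebraicGeometry TopologicalSpace Opposite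
open Groth.Agent.CohFinite
open Groth.Agent.QC (res resO res_res res_self res_smul resO_resO resO_self section_eq_of_locally app_res)
open Groth.Agent.WeakAssLib (mgerm mgerm_res mgerm_smul stalkHom stalkHom_germ stalkHom_smul)
open Groth.Agent.CurveRR
open TMul (IsGen homOf val_homOf tm)

noncomputable section

namespace Groth.Agent.CurveVA

attribute [local instance] Abelian.hasFiniteBiproducts secMod

section Biprod

variable {X : Scheme.{u}} {d : ℕ} {L : X.Modules}

theorem tm_zero' {M N : X.Modules} {W : X.Opens} (m : Γ(M, W)) : tm m (0 : Γ(N, W)) = 0 := by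
  have h := TMul.add_tm m (0 : Γ(N, W)) 0
  rw [add_zero] at h
  exact left_eq_add.mp h

/-- The finite power of a module. -/
abbrev pw (L : X.Modules) (d : ℕ) : X.Modules := ⨁ fun _ : Fin d => L

/-- The section with given components. -/
def vec {W : X.Opens} (t : Fin d → Γ(L, W)) : Γ(pw L d, W) :=
  ∑ i, (biproduct.ι (fun _ : Fin d => L) i).app W (t i)

theorem π_vec {W : X.Opens} (t : Fin d → Γ(L, W)) (j : Fin d) :
    (biproduct.π (fun _ : Fin d => L) j).app W (vec t) = t j := by
  rw [vec, map_sum, Finset.sum_eq_single j]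
  · show (biproduct.ι (fun _ : Fin d => L) j ≫ biproduct.π (fun _ : Fin d => L) j).app W (t j) = t j
    rw [biproduct.ι_π_self]; rfl
  · intro i _ hne
    show (biproduct.ι (fun _ : Fin d => L) i ≫ biproduct.π (fun _ : Fin d => L) j).app W (t i) = 0
    rw [biproduct.ι_π_ne _ hne]; rfl
  · exact fun h => absurd (Finset.mem_univ _) h

theorem vec_π {W : X.Opens} (w : Γ(pw L d, W)) :
    vec (fun i => (biproduct.π (fun _ : Fin d => L) i).app W w) = w := by
  let φ : (pw L d ⟶ pw L d) →+ Γ(pw L d, W) := AddMonoidHom.mk' (fun f => f.app W w) fun a b => rfl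
  exact (map_sum φ (fun i => biproduct.π (fun _ : Fin d => L) i ≫ biproduct.ι (fun _ : Fin d => L) i) Finset.univ).symm.trans
    (congrArg φ biproduct.total)

theorem stalk_total (x : X) (v : (pw L d).presheaf.stalk x) :
    v = ∑ i, stalkHom (biproduct.ι (fun _ : Fin d => L) i) x (stalkHom (biproduct.π (fun _ : Fin d => L) i) x v) := by
  obtain ⟨W, hW, s, rfl⟩ := (pw L d).presheaf.exists_germ_eq (x := x) v
  have e : ∀ i, stalkHom (biproduct.ι (fun _ : Fin d => L) i) x
      (stalkHom (biproduct.π (fun _ : Fin d => L) i) x (mgerm _ hW s)) =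
      mgerm (pw L d) hW ((biproduct.ι (fun _ : Fin d => L) i).app W ((biproduct.π (fun _ : Fin d => L) i).app W s)) :=
    fun i => by rw [stalkHom_germ, stalkHom_germ]
  show mgerm _ hW s = ∑ i, _
  rw [Finset.sum_congr rfl fun i _ => e i, ← map_sum]
  exact congrArg _ (vec_π s).symm

end Biprod

variable {k : Type u} [Field k] {X : Scheme.{u}} [X.Over (Spec (CommRingCat.of k))]
  [IsProper (X ↘ Spec (CommRingCat.of k))]

/-- A functional on `H^1(M)` turns sections of `M` into functionals on `H^1(O)`. -/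
def dualPair {M : X.Modules} (lam : Module.Dual k (Coh.HH X M 1)) :
    Γ(M, ⊤) →ₗ[k] Module.Dual k (Coh.HH X (Coh.structureModule X) 1) where
  toFun t := lam.comp (hhMap k (homOf t) 1)
  map_add' s t := LinearMap.ext fun x => by
    show lam (Sheaf.H.map (toAbMap (homOf (s + t))) 1 x) =
      lam (Sheaf.H.map (toAbMap (homOf s)) 1 x) + lam (Sheaf.H.map (toAbMap (homOf t)) 1 x)
    rw [← map_add lam, ← Sheaf.H.map_add_apply]
    refine congrArg lam (congrArg (fun f => Sheaf.H.map f 1 x) ?_)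
    rw [← Functor.map_add]
    refine congrArg toAbMap (TMul.hom_ext_val ?_)
    show TMul.val (homOf (s + t)) ⊤ = TMul.val (homOf s) ⊤ + TMul.val (homOf t) ⊤
    rw [val_homOf, val_homOf, val_homOf, map_add]
  map_smul' a t := LinearMap.ext fun x => by
    show lam (Sheaf.H.map (toAbMap (homOf (CurveRR.cst k X ⊤ a • t))) 1 x) =
      a • lam (Sheaf.H.map (toAbMap (homOf t)) 1 x)
    rw [← map_smul lam, toAbMap_homOf_smul, Sheaf.H.map_comp_apply]
    rfl

theorem hh_total {L : X.Modules} {d : ℕ} (q : ℕ) (x : Coh.HH X (pw L d) q) :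
    x = ∑ i, hhMap k (biproduct.ι (fun _ : Fin d => L) i) q (hhMap k (biproduct.π (fun _ : Fin d => L) i) q x) := by
  let φ : (pw L d ⟶ pw L d) →+ Coh.HH X (pw L d) q := AddMonoidHom.mk' (fun f => hhMap k f q x) fun a b => by
    show Sheaf.H.map (toAbMap (a + b)) q x = Sheaf.H.map (toAbMap a) q x + Sheaf.H.map (toAbMap b) q x
    rw [← Sheaf.H.map_add_apply]
    exact congrArg (fun f => Sheaf.H.map f q x) (Functor.map_add _)
  have h := (congrArg φ (biproduct.total (f := fun _ : Fin d => L))).symm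
  rw [map_sum] at h
  refine ((hhMap_id k (pw L d) q x).symm.trans h).trans (Finset.sum_congr rfl fun i _ => ?_)
  exact hhMap_comp k (biproduct.π (fun _ : Fin d => L) i) (biproduct.ι (fun _ : Fin d => L) i) q x

section Fibre

variable {I : X.IdealSheafData} {K : Type u} [Field K] [Algebra k K]

/-- A ring map into the functions of a subscheme, as sections of the quotient module. -/
def qmap (ι : K →+* Γ(I.subscheme, I.subschemeι ⁻¹ᵁ ⊤)) (c : K) : Γ(ClSub.quotMod I, ⊤) := ι c

/-- Multiplication by a constant of `K` on the quotient module. -/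
def mulHom (ι : K →+* Γ(I.subscheme, I.subschemeι ⁻¹ᵁ ⊤)) (c : K) : ClSub.quotMod I ⟶ ClSub.quotMod I :=
  (Scheme.Modules.pushforward I.subschemeι).map
    (homOf (L := Coh.structureModule I.subscheme) (ι c : Γ(I.subscheme, ⊤)))

theorem mulHom_app (ι : K →+* Γ(I.subscheme, I.subschemeι ⁻¹ᵁ ⊤)) (c c' : K) :
    (mulHom ι c).app ⊤ (qmap ι c') = qmap ι (c' * c) := by
  show (homOf (L := Coh.structureModule I.subscheme) (ι c : Γ(I.subscheme, ⊤))).app (I.subschemeι ⁻¹ᵁ ⊤)
    (ι c' : Γ(I.subscheme, I.subschemeι ⁻¹ᵁ ⊤)) = qmap ι (c' * c)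
  rw [TMul.app_eq_smul, val_homOf]
  show (ι c' : Γ(I.subscheme, I.subschemeι ⁻¹ᵁ ⊤)) * _ = ι (c' * c)
  rw [map_mul]
  exact congrArg _ (res_self (Coh.structureModule I.subscheme) _ _)

/-- The fibre inequality. -/
theorem false_of_fibre [IsIntegral X] [GeometricallyIntegral (X ↘ Spec (CommRingCat.of k))]
    (hdim : topologicalKrullDim X ≤ 1) {L : X.Modules} (hL : PicF.IsInvertible L)
    (hbig : Curv2.genus k X + 1 < h k L 0) (hI : topologicalKrullDim (I.support : Set X) ≤ 0)
    [Module.Finite k K] (ι : K →+* Γ(I.subscheme, I.subschemeι ⁻¹ᵁ ⊤))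
    (hι : ∀ a : k, ι (algebraMap k K a) = (I.subschemeι.app ⊤).hom (CurveRR.cst k X ⊤ a))
    (hQ : Module.finrank k K < h k (ClSub.quotMod I) 0) (g0 : Γ(L, ⊤))
    (hs : ∀ s : Γ(L, ⊤), ∃ c : K, tm (qmap ι 1) s = tm (qmap ι c) g0) : False := by
  classical
  haveI := isNoetherian_of_proper k X
  set d := Module.finrank k K with hd
  let b : Module.Basis (Fin d) k K := Module.finBasis k K
  let C : Fin d → Fin d → Fin d → k := fun i l j => b.repr (b i * b l) j
  let QL : X.Modules := CohB1.tensorMod (ClSub.quotMod I) L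
  have hq_smul : ∀ (a : k) (c : K), qmap ι (a • c) = CurveRR.cst k X ⊤ a • qmap ι c := fun a c => by
    show ι (a • c) = (I.subschemeι.app ⊤).hom (CurveRR.cst k X ⊤ a) * ι c
    rw [Algebra.smul_def, map_mul, hι]
  let qL : K →ₗ[k] Γ(ClSub.quotMod I, ⊤) :=
    { toFun := qmap ι, map_add' := map_add ι, map_smul' := hq_smul }
  let G : K →ₗ[k] Γ(QL, ⊤) :=
    { toFun := fun c => tm (qmap ι c) g0
      map_add' := fun a c => by rw [show qmap ι (a + c) = qmap ι a + qmap ι c from map_add ι a c, TMul.tm_add]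
      map_smul' := fun a c => by
        rw [hq_smul, TMul.smul_tm]; rfl }
  let Φ : (Fin d → Γ(L, ⊤)) →ₗ[k] Γ(QL, ⊤) :=
    { toFun := fun t => ∑ j, tm (qmap ι (b j)) (t j)
      map_add' := fun s t => by simp only [Pi.add_apply, TMul.add_tm, Finset.sum_add_distrib]
      map_smul' := fun a t => by
        show ∑ j, tm (qmap ι (b j)) (CurveRR.cst k X ⊤ a • t j) = CurveRR.cst k X ⊤ a • _
        rw [Finset.smul_sum]
        exact Finset.sum_congr rfl fun j _ => TMul.tm_smul _ _ _ }
  have hΦG : LinearMap.range Φ ≤ LinearMap.range G := by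
    rintro _ ⟨t, rfl⟩
    show (∑ j, tm (qmap ι (b j)) (t j)) ∈ LinearMap.range G
    refine Submodule.sum_mem _ fun j _ => ?_
    obtain ⟨c, hc⟩ := hs (t j)
    have e := congrArg ((tmap (mulHom ι (b j)) L).app ⊤) hc
    rw [tmap_tm, tmap_tm, mulHom_app, mulHom_app, one_mul] at e
    exact ⟨c * b j, e.symm⟩
  have hrange : Module.finrank k (LinearMap.range Φ) ≤ d :=
    (Submodule.finrank_mono hΦG).trans (LinearMap.finrank_range_le G)
  -- the map of sheaves
  let pj : Fin d → (L ⟶ QL) := fun j => (TMul.leftUnitIso L).inv ≫ tmap (homOf (qmap ι (b j))) L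
  have hpj : ∀ (j : Fin d) (W : X.Opens) (s : Γ(L, W)),
      (pj j).app W s = tm (res (ClSub.quotMod I) le_top (qmap ι (b j))) s := fun j W s => by
    have h1 : (TMul.leftUnitIso L).inv.app W s = tm (M := Coh.structureModule X) (1 : Γ(X, W)) s := by
      refine (ConcreteCategory.bijective_of_isIso ((TMul.leftUnitIso L).hom.app W)).1 ?_
      rw [leftUnitIso_tm, one_smul]
      exact ConcreteCategory.congr_hom (congrArg (fun ψ => Scheme.Modules.Hom.app ψ W) (TMul.leftUnitIso L).inv_hom_id) s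
    show (tmap (homOf (qmap ι (b j))) L).app W ((TMul.leftUnitIso L).inv.app W s) = _
    rw [h1, tmap_tm, TMul.app_eq_smul, val_homOf, one_smul]
  let ψ : pw L d ⟶ QL := biproduct.desc pj
  have hψι : ∀ (j : Fin d) (W : X.Opens) (s : Γ(L, W)),
      ψ.app W ((biproduct.ι (fun _ : Fin d => L) j).app W s) = (pj j).app W s := fun j W s => by
    show (biproduct.ι (fun _ : Fin d => L) j ≫ ψ).app W s = _
    rw [biproduct.ι_desc]
  have hψ : ∀ t : Fin d → Γ(L, ⊤), ψ.app ⊤ (vec t) = Φ t := fun t => by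
    rw [vec, map_sum]
    exact Finset.sum_congr rfl fun j _ => by rw [hψι, hpj, res_self]
  haveI : Epi ψ := InvGen.epi_of_locally _ fun U t x hx => by
    obtain ⟨V, hV, e, hxV, he⟩ := exists_gen_le hL hx
    obtain ⟨a, ha⟩ := (TMul.tm_bijective (M := ClSub.quotMod I) he V le_rfl).2 (res QL hV t)
    change tm a (res L le_rfl e) = _ at ha
    rw [res_self] at ha
    obtain ⟨W, hW, hxW, r, hr⟩ := TMul.exists_app_eq_of_epi (ClSub.toSubscheme I) a hxV
    let r' : Γ(X, W) := r
    refine ⟨W, hW.trans hV, hxW, ∑ j, (biproduct.ι (fun _ : Fin d => L) j).app W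
      (CurveRR.cst k X W (b.repr 1 j) • r' • res L hW e), ?_⟩
    rw [map_sum, ← res_res QL hW hV, ← ha, TMul.res_tm, ← hr]
    have h1 : ∀ j, ψ.app W ((biproduct.ι (fun _ : Fin d => L) j).app W (CurveRR.cst k X W (b.repr 1 j) • r' • res L hW e)) =
        tm (res (ClSub.quotMod I) (le_top : W ≤ ⊤) (CurveRR.cst k X ⊤ (b.repr 1 j) • qmap ι (b j))) (r' • res L hW e) := fun j => by
      rw [hψι, hpj, TMul.tm_smul, ← TMul.smul_tm, res_smul]
      exact congrArg (fun c : Γ(X, W) => tm (c • res (ClSub.quotMod I) (le_top : W ≤ ⊤) (qmap ι (b j))) (r' • res L hW e))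
        (resO_resO (le_top : W ≤ ⊤) (le_top : (⊤ : X.Opens) ≤ ⊤) _).symm
    rw [Finset.sum_congr rfl fun j _ => h1 j]
    have h2 : ∑ j, CurveRR.cst k X ⊤ (b.repr 1 j) • qmap ι (b j) = qmap ι 1 := by
      conv_rhs => rw [← b.sum_repr 1]
      rw [show qmap ι (∑ j, b.repr 1 j • b j) = qL (∑ j, b.repr 1 j • b j) from rfl, map_sum]
      exact Finset.sum_congr rfl fun j _ => (hq_smul _ _).symm
    have h3 : ∀ (T : Finset (Fin d)) (f : Fin d → Γ(ClSub.quotMod I, W)) (l : Γ(L, W)),
        ∑ j ∈ T, tm (f j) l = tm (∑ j ∈ T, f j) l := fun T f l => by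
      induction T using Finset.induction_on with
      | empty => simp [TMul.zero_tm]
      | insert j T hj ih => rw [Finset.sum_insert hj, Finset.sum_insert hj, TMul.tm_add, ih]
    rw [h3, ← map_sum, h2, TMul.tm_smul, ← TMul.smul_tm]
    refine congrArg (fun q => tm q (res L hW e)) ?_
    refine Eq.trans ?_ ((TMul.app_smul (ClSub.toSubscheme I) r' (1 : Γ(X, W))).symm.trans
      (congrArg ((ClSub.toSubscheme I).app W) (mul_one r')))
    refine congrArg (fun q : Γ(ClSub.quotMod I, W) => r' • q) ?_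
    show (I.subscheme.presheaf.map _).hom (ι 1 : Γ(I.subscheme, I.subschemeι ⁻¹ᵁ ⊤)) = (I.subschemeι.app W).hom 1
    rw [map_one, map_one, map_one]
  have hS : (ShortComplex.mk (kernel.ι ψ) ψ (kernel.condition ψ)).ShortExact := shortExact_ker ψ
  have hQc := (isCoh_idealMod I).2
  have hQLc : Coh.IsCoh QL := isCoh_tensor' hQc (isCoh_of_inv hL)
  have hNc : Coh.IsCoh (pw L d) := Devissage.isCoh_biproduct _ fun _ => isCoh_of_inv hL
  have hMc : Coh.IsCoh (kernel ψ) := Groth.Agent.QC.isCoh_kernel hNc hQLc.1 ψ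
  have hQLd : h k QL 0 = h k (ClSub.quotMod I) 0 := by
    rw [h_eq_of_iso (TMul.commIso (ClSub.quotMod I) L),
      (h0_tensor (k := k) hQc I.support.isClosed hI (support_quotMod I) (isFinLocFreeOfRank_one hL)).1, one_mul]
  haveI := finite_proper k X _ hQLc 0
  haveI : Module.Finite k Γ(QL, ⊤) := Module.Finite.equiv (secH0 (k := k) QL).symm
  have h1 : Nontrivial (Coh.HH X (kernel ψ) 1) := by
    by_contra hn
    rw [not_nontrivial_iff_subsingleton] at hn
    have hsurj : Function.Surjective (hhMap k ψ 0) := fun y => by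
      have : y ∈ LinearMap.range (hhMap k ψ 0) :=
        (range_g_eq_ker_δ hS 0).ge (LinearMap.mem_ker.mpr (@Subsingleton.elim _ hn _ _))
      exact this
    have hsurj' := (surjective_hh0_iff (k := k) ψ).mp hsurj
    have : LinearMap.range Φ = ⊤ := LinearMap.range_eq_top.mpr fun y => by
      obtain ⟨w, rfl⟩ := hsurj' y
      exact ⟨fun i => (biproduct.π (fun _ : Fin d => L) i).app ⊤ w, by rw [← hψ, vec_π]⟩
    rw [this, finrank_top, finrank_sec, hQLd] at hrange
    omega
  haveI := finite_proper k X _ (isCoh_of_inv hL) 0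
  haveI : Module.Finite k Γ(L, ⊤) := Module.Finite.equiv (secH0 (k := k) L).symm
  haveI := finite_proper k X _ hMc 0
  haveI : Module.Finite k Γ(kernel ψ, ⊤) := Module.Finite.equiv (secH0 (k := k) (kernel ψ)).symm
  -- tuples in the kernel
  let jw : Γ(kernel ψ, ⊤) →ₗ[k] (Fin d → Γ(L, ⊤)) :=
    { toFun := fun w i => (biproduct.π (fun _ : Fin d => L) i).app ⊤ ((kernel.ι ψ).app ⊤ w)
      map_add' := fun a c => by funext i; simp only [map_add, Pi.add_apply]
      map_smul' := fun a c => by
        funext i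
        show (biproduct.π (fun _ : Fin d => L) i).app ⊤ ((kernel.ι ψ).app ⊤ (CurveRR.cst k X ⊤ a • c)) =
          CurveRR.cst k X ⊤ a • _
        rw [TMul.app_smul, TMul.app_smul] }
  have hjker : ∀ w, jw w ∈ LinearMap.ker Φ := fun w => by
    rw [LinearMap.mem_ker, ← hψ]
    show ψ.app ⊤ (vec fun i => (biproduct.π (fun _ : Fin d => L) i).app ⊤ ((kernel.ι ψ).app ⊤ w)) = 0
    rw [vec_π]
    exact (Groth.Agent.QC.mem_range_kernel_app ψ ⊤ _).mp ⟨w, rfl⟩
  have hjinj : Function.Injective jw := fun a c h => Groth.Agent.QC.app_injective_of_mono (kernel.ι ψ) ⊤ (by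
    rw [← vec_π ((kernel.ι ψ).app ⊤ a), ← vec_π ((kernel.ι ψ).app ⊤ c)]
    exact congrArg vec h)
  let e : Γ(kernel ψ, ⊤) ≃ₗ[k] LinearMap.ker Φ := LinearEquiv.ofBijective (jw.codRestrict _ hjker)
    ⟨fun a c h => hjinj (congrArg Subtype.val h), fun t => by
      obtain ⟨w, hw⟩ := (Groth.Agent.QC.mem_range_kernel_app ψ ⊤ (vec t.1)).mpr
        ((hψ t.1).trans (LinearMap.mem_ker.mp t.2))
      refine ⟨w, Subtype.ext (funext fun i => ?_)⟩
      show (biproduct.π (fun _ : Fin d => L) i).app ⊤ ((kernel.ι ψ).app ⊤ w) = t.1 i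
      rw [hw, π_vec]⟩
  have hT : d * h k L 0 ≤ Module.finrank k Γ(kernel ψ, ⊤) + d := by
    have e1 := Φ.finrank_range_add_finrank_ker
    rw [Module.finrank_pi_fintype, Finset.sum_const, Finset.card_univ, Fintype.card_fin, smul_eq_mul, finrank_sec] at e1
    rw [e.finrank_eq]
    omega
  -- multiplication by the basis
  let col : Fin d → (Fin d → Γ(L, ⊤)) →ₗ[k] (Fin d → Γ(L, ⊤)) := fun i =>
    LinearMap.pi fun j => ∑ l, C i l j • LinearMap.proj l
  have hcolv : ∀ (i j : Fin d) (t : Fin d → Γ(L, ⊤)), col i t j = ∑ l, CurveRR.cst k X ⊤ (C i l j) • t l :=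
    fun i j t => by
      simp only [col, LinearMap.pi_apply, LinearMap.sum_apply, LinearMap.smul_apply, LinearMap.proj_apply]
      rfl
  have hcol : ∀ (i : Fin d), ∀ t ∈ LinearMap.ker Φ, col i t ∈ LinearMap.ker Φ := fun i t ht => by
    rw [LinearMap.mem_ker] at ht ⊢
    have e1 := congrArg ((tmap (mulHom ι (b i)) L).app ⊤) ht
    rw [map_zero] at e1
    rw [← e1]
    show ∑ j, tm (qmap ι (b j)) (col i t j) = (tmap (mulHom ι (b i)) L).app ⊤ (∑ l, tm (qmap ι (b l)) (t l))
    rw [map_sum]
    simp only [hcolv]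
    have h3 : ∀ (j : Fin d) (T : Finset (Fin d)) (f : Fin d → Γ(L, ⊤)),
        tm (qmap ι (b j)) (∑ l ∈ T, f l) = ∑ l ∈ T, tm (qmap ι (b j)) (f l) := fun j T f => by
      induction T using Finset.induction_on with
      | empty => simp [tm_zero']
      | insert l T hl ih => rw [Finset.sum_insert hl, Finset.sum_insert hl, TMul.add_tm, ih]
    simp only [h3]
    rw [Finset.sum_comm]
    refine Finset.sum_congr rfl fun l _ => ?_
    rw [tmap_tm, mulHom_app, mul_comm (b l) (b i)]
    conv_rhs => rw [← b.sum_repr (b i * b l)]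
    rw [show qmap ι (∑ j, b.repr (b i * b l) j • b j) = qL (∑ j, b.repr (b i * b l) j • b j) from rfl, map_sum]
    have h4 : ∀ (T : Finset (Fin d)) (f : Fin d → Γ(ClSub.quotMod I, ⊤)),
        tm (∑ j ∈ T, f j) (t l) = ∑ j ∈ T, tm (f j) (t l) := fun T f => by
      induction T using Finset.induction_on with
      | empty => simp [TMul.zero_tm]
      | insert j T hj ih => rw [Finset.sum_insert hj, Finset.sum_insert hj, TMul.tm_add, ih]
    rw [h4]
    refine Finset.sum_congr rfl fun j _ => ?_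
    show _ = tm (qmap ι (b.repr (b i * b l) j • b j)) (t l)
    rw [hq_smul, TMul.smul_tm, TMul.tm_smul]
  let u : Fin d → (Γ(kernel ψ, ⊤) →ₗ[k] Γ(kernel ψ, ⊤)) := fun i =>
    e.symm.toLinearMap ∘ₗ ((col i).restrict (hcol i)) ∘ₗ e.toLinearMap
  have hu : ∀ i w j, (biproduct.π (fun _ : Fin d => L) j).app ⊤ ((kernel.ι ψ).app ⊤ (u i w)) = col i (jw w) j :=
    fun i w j => congrFun (congrArg Subtype.val (e.apply_symm_apply ((col i).restrict (hcol i) (e w)))) j
  -- generic surjectivity
  let η := genericPoint X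
  obtain ⟨D, g₁, hηD, hg₁⟩ := TMul.exists_isGen hL η
  obtain ⟨U, hU, hηU, hUD⟩ := exists_isAffineOpen_mem_and_subset hηD
  haveI : Nonempty U := ⟨⟨η, hηU⟩⟩
  have hg : IsGen (res L hUD g₁) := hg₁.res hUD
  set g := res L hUD g₁ with hgdef
  have hgen : ∀ w : Γ(kernel ψ, ⊤), w ≠ 0 → Function.Surjective
      (stalkHom (biproduct.desc fun i => homOf (u i w) : pw (Coh.structureModule X) d ⟶ kernel ψ) η) := by
    intro w hw
    have hf : ∀ l, ∃ c : Γ(X, U), c • g = res L (le_top : U ≤ ⊤) (jw w l) := fun l => by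
      obtain ⟨c, hc⟩ := (hg U le_rfl).2 (res L le_top (jw w l))
      change c • res L le_rfl g = _ at hc
      rw [res_self] at hc
      exact ⟨c, hc⟩
    choose f hf using hf
    have hf0 : f ≠ 0 := fun h => hw (hjinj (by
      rw [map_zero]
      funext l
      refine eq_zero_of_germ_generic hL _ (U := ⊤) trivial ?_
      rw [← mgerm_res L (le_top : U ≤ ⊤) hηU, ← hf l, h, Pi.zero_apply, zero_smul, map_zero]))
    let N : Matrix (Fin d) (Fin d) Γ(X, U) :=
      Matrix.of fun j i => ∑ l, ZeroSch.cst k U (b.repr (b i * b l) j) * f l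
    have hcolU : ∀ i j, res L (le_top : U ≤ ⊤) (col i (jw w) j) = N j i • g := fun i j => by
      rw [hcolv, map_sum]
      show _ = (∑ l, ZeroSch.cst k U (b.repr (b i * b l) j) * f l) • g
      rw [Finset.sum_smul]
      refine Finset.sum_congr rfl fun l _ => ?_
      rw [res_smul, mul_smul, hf l]
      exact congrArg (fun c : Γ(X, U) => c • _) (resO_resO (le_top : U ≤ ⊤) (le_top : (⊤ : X.Opens) ≤ ⊤) _)
    letI : Field (X.presheaf.stalk η) := inferInstanceAs (Field X.functionField)
    let φ : Γ(X, U) →+* X.presheaf.stalk η := (X.presheaf.germ U η hηU).hom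
    have hdet : IsUnit (N.map φ).det := by
      rw [show N.map φ = φ.mapMatrix N from rfl, ← RingHom.map_det]
      refine isUnit_iff_ne_zero.mpr fun h => det_ne_zero (k := k) hU K b f hf0 ?_
      exact germ_injective_of_isIntegral X η hηU (h.trans (map_zero _).symm)
    intro v
    let v' := stalkHom (kernel.ι ψ) η v
    choose r hr using fun j => ZeroSch.exists_smul_germ hg hηU (stalkHom (biproduct.π (fun _ : Fin d => L) j) η v')
    let a := (N.map φ)⁻¹.mulVec r
    have ha : (N.map φ).mulVec a = r := by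
      show (N.map φ).mulVec ((N.map φ)⁻¹.mulVec r) = r
      rw [Matrix.mulVec_mulVec, Matrix.mul_nonsing_inv _ hdet, Matrix.one_mulVec]
    have hη : η ∈ (⊤ : X.Opens) := trivial
    refine ⟨∑ i, a i • mgerm (pw (Coh.structureModule X) d) hη
      ((biproduct.ι (fun _ : Fin d => Coh.structureModule X) i).app ⊤ (1 : Γ(X, ⊤))), ?_⟩
    refine (ModuleCat.mono_iff_injective _).1
      (inferInstance : Mono ((DerSch.stalkFunctor X η).map (kernel.ι ψ))) ?_
    show stalkHom (kernel.ι ψ) η (stalkHom _ η _) = v'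
    rw [map_sum, map_sum]
    have h5 : ∀ i, stalkHom (kernel.ι ψ) η (stalkHom (biproduct.desc fun i => homOf (u i w) : pw (Coh.structureModule X) d ⟶ kernel ψ) η
        (a i • mgerm (pw (Coh.structureModule X) d) hη
          ((biproduct.ι (fun _ : Fin d => Coh.structureModule X) i).app ⊤ (1 : Γ(X, ⊤))))) =
        a i • mgerm (pw L d) hη ((kernel.ι ψ).app ⊤ (u i w)) := fun i => by
      rw [stalkHom_smul, stalkHom_germ, stalkHom_smul, stalkHom_germ]
      congr 3
      show (biproduct.ι (fun _ : Fin d => Coh.structureModule X) i ≫ biproduct.desc fun i => homOf (u i w)).app ⊤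
        (1 : Γ(X, ⊤)) = u i w
      rw [biproduct.ι_desc, TMul.app_eq_smul, val_homOf, one_smul, res_self]
    rw [Finset.sum_congr rfl fun i _ => h5 i, stalk_total η (∑ i, a i • mgerm (pw L d) hη ((kernel.ι ψ).app ⊤ (u i w))),
      stalk_total η v']
    refine Finset.sum_congr rfl fun j _ => congrArg _ ?_
    rw [map_sum, hr j]
    have h6 : ∀ i, stalkHom (biproduct.π (fun _ : Fin d => L) j) η (a i • mgerm (pw L d) hη ((kernel.ι ψ).app ⊤ (u i w))) =
        ((N.map φ) j i * a i) • mgerm L hηU g := fun i => by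
      rw [stalkHom_smul, stalkHom_germ, hu, ← mgerm_res L (le_top : U ≤ ⊤) hηU, hcolU, mgerm_smul, smul_smul,
        mul_comm (a i)]
      rfl
    rw [Finset.sum_congr rfl fun i _ => h6 i, ← Finset.sum_smul]
    exact congrArg (fun c => c • mgerm L hηU g) (congrFun ha j)
  -- pairing
  obtain ⟨x₀, hx₀⟩ := exists_ne (0 : Coh.HH X (kernel ψ) 1)
  haveI : Module.Free k (Coh.HH X (kernel ψ) 1) := Module.Free.of_divisionRing k _
  obtain ⟨lam, hlam⟩ : ∃ lam : Module.Dual k (Coh.HH X (kernel ψ) 1), lam x₀ ≠ 0 := by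
    by_contra! hh
    exact hx₀ ((Module.forall_dual_apply_eq_zero_iff k x₀).1 hh)
  let Λ : Γ(kernel ψ, ⊤) →ₗ[k] (Fin d → Module.Dual k (Coh.HH X (Coh.structureModule X) 1)) :=
    LinearMap.pi fun i => (dualPair lam).comp (u i)
  haveI := finite_proper k X (Coh.structureModule X) RefStalk.isCoh_structureModule 1
  have hΛ : Function.Injective Λ := (injective_iff_map_eq_zero Λ).2 fun w hw => by
    by_contra hw0
    let Ψ : pw (Coh.structureModule X) d ⟶ kernel ψ := biproduct.desc fun i => homOf (u i w)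
    have hcl := Groth.Agent.QC.isClosed_support (Groth.Agent.QC.isCoh_cokernel
      (Devissage.isQCoh_biproduct _ fun _ => RefStalk.isCoh_structureModule.1) hMc Ψ).2
    obtain ⟨y, hy⟩ := h1_surjective (k := k) hdim Ψ hcl
      (dim_le_zero_of_closed hdim hcl (notMem_support_coker _ _ (hgen w hw0))) le_rfl x₀
    refine hlam ?_
    rw [← hy, hh_total (k := k) 1 y, map_sum, map_sum]
    refine Finset.sum_eq_zero fun i _ => ?_
    rw [← hhMap_comp, biproduct.ι_desc]
    exact LinearMap.congr_fun (congrFun hw i) _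
  have hle := LinearMap.finrank_le_finrank_of_injective hΛ
  rw [Module.finrank_pi_fintype, Finset.sum_const, Finset.card_univ, Fintype.card_fin, smul_eq_mul,
    Subspace.dual_finrank_eq] at hle
  change _ ≤ d * Curv2.genus k X at hle
  have hdpos : 0 < d := Module.finrank_pos
  have : d * (Curv2.genus k X + 2) ≤ d * h k L 0 := Nat.mul_le_mul_left d hbig
  rw [mul_add] at this
  omega

end Fibre

end Groth.Agent.CurveVA
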