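import Groth.Agent.CurveRR.Zero
import Groth.Agent.ZeroSch.Over
import Mathlib.AlgebraicGeometry.Geometrically.Integral
import Mathlib.RingTheory.TensorProduct.Free
import Mathlib.LinearAlgebra.Matrix.ToLinearEquiv

/-!
Geometric integrality on affine charts: `Γ(U) ⊗ K` is a domain, so twisted multiplication matrices are invertible.
-/

set_option autoImplicit false
set_option backward.isDefEq.respectTransparency false
set_option linter.style.haveILetI false

universe u

open CategoryTheory CategoryTheory.Limits AlgebraicGeometry TopologicalSpace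
open scoped TensorProduct

noncomputable section

namespace Groth.Agent.CurveVA

variable {k : Type u} [Field k] {X : Scheme.{u}} [X.Over (Spec (CommRingCat.of k))]
  [GeometricallyIntegral (X ↘ Spec (CommRingCat.of k))] {U : X.Opens}

theorem isDomain_tensor (hU : IsAffineOpen U) [hne : Nonempty U] (K : Type u) [Field K] [Algebra k K] :
    letI := (ZeroSch.cst k U).toAlgebra
    IsDomain (Γ(X, U) ⊗[k] K) := by
  letI := (ZeroSch.cst k U).toAlgebra
  haveI : IsIntegral (pullback (X ↘ Spec (CommRingCat.of k)) (Spec.map (CommRingCat.ofHom (algebraMap k K)))) :=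
    GeometricallyIntegral.geometrically_isIntegral (f := X ↘ Spec (CommRingCat.of k)) _ _ _
      (.of_hasPullback _ _)
  have hcomp : hU.fromSpec ≫ (X ↘ Spec (CommRingCat.of k)) =
      Spec.map (CommRingCat.ofHom (algebraMap k Γ(X, U))) := (ZeroSch.specMap_cst hU).symm
  let e : pullback hU.fromSpec (pullback.fst (X ↘ Spec (CommRingCat.of k)) (Spec.map (CommRingCat.ofHom (algebraMap k K)))) ≅
      Spec (CommRingCat.of (Γ(X, U) ⊗[k] K)) :=
    pullbackRightPullbackFstIso _ _ hU.fromSpec ≪≫ pullback.congrHom hcomp rfl ≪≫ pullbackSpecIso k Γ(X, U) K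
  haveI : Nontrivial Γ(X, U) := inferInstance
  haveI : Nontrivial (Γ(X, U) ⊗[k] K) := by
    let b := Module.Free.chooseBasis k K
    haveI : Nonempty (Module.Free.ChooseBasisIndex k K) := b.index_nonempty
    exact ((Algebra.TensorProduct.basis Γ(X, U) b).repr).toEquiv.nontrivial
  haveI : Nonempty (Spec (CommRingCat.of (Γ(X, U) ⊗[k] K))) := inferInstanceAs (Nonempty (PrimeSpectrum _))
  haveI := isIntegral_of_isOpenImmersion (e.inv ≫ pullback.snd hU.fromSpec
    (pullback.fst (X ↘ Spec (CommRingCat.of k)) (Spec.map (CommRingCat.ofHom (algebraMap k K)))))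
  exact (affine_isIntegral_iff (CommRingCat.of (Γ(X, U) ⊗[k] K))).mp inferInstance

/-- Multiplication by a nonzero `Σ f_l ⊗ b_l` has nonzero determinant. -/
theorem det_ne_zero [IsIntegral X] (hU : IsAffineOpen U) [Nonempty U] (K : Type u) [Field K] [Algebra k K] {d : ℕ}
    (b : Module.Basis (Fin d) k K) (f : Fin d → Γ(X, U)) (hf : f ≠ 0) :
    (Matrix.of fun j i => ∑ l, ZeroSch.cst k U (b.repr (b i * b l) j) * f l : Matrix (Fin d) (Fin d) Γ(X, U)).det ≠ 0 := by
  classical
  letI := (ZeroSch.cst k U).toAlgebra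
  haveI := isDomain_tensor (k := k) hU K
  intro h
  obtain ⟨a, ha, hN⟩ := Matrix.exists_mulVec_eq_zero_iff.mpr h
  let B := Algebra.TensorProduct.basis Γ(X, U) b
  have hne : ∀ c : Fin d → Γ(X, U), ∑ i, c i ⊗ₜ[k] b i = 0 → c = 0 := fun c hc => funext fun i => by
    have e := Fintype.linearIndependent_iff.mp B.linearIndependent c (by
      rw [← hc]
      refine Finset.sum_congr rfl fun j _ => ?_
      rw [Algebra.TensorProduct.basis_apply, TensorProduct.smul_tmul', smul_eq_mul, mul_one]) i
    exact e
  have key : (∑ i, a i ⊗ₜ[k] b i) * (∑ l, f l ⊗ₜ[k] b l) = 0 := by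
    rw [Finset.sum_mul_sum]
    have : ∀ i l, (a i ⊗ₜ[k] b i) * (f l ⊗ₜ[k] b l) =
        ∑ j, (ZeroSch.cst k U (b.repr (b i * b l) j) * f l * a i) ⊗ₜ[k] b j := fun i l => by
      rw [Algebra.TensorProduct.tmul_mul_tmul]
      conv_lhs => rw [← b.sum_repr (b i * b l), TensorProduct.tmul_sum]
      refine Finset.sum_congr rfl fun j _ => ?_
      rw [← TensorProduct.smul_tmul, Algebra.smul_def, mul_assoc, mul_comm (f l) (a i)]
      rfl
    simp only [this]
    rw [Finset.sum_congr rfl fun i _ => Finset.sum_comm, Finset.sum_comm]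
    refine Finset.sum_eq_zero fun j _ => ?_
    rw [← Finset.sum_congr rfl fun i _ => TensorProduct.sum_tmul _ _ _, ← TensorProduct.sum_tmul]
    have hj := congrFun hN j
    simp only [Matrix.mulVec, dotProduct, Matrix.of_apply, Pi.zero_apply, Finset.sum_mul] at hj
    rw [hj, TensorProduct.zero_tmul]
  rcases mul_eq_zero.mp key with h1 | h1
  · exact ha (hne a h1)
  · exact hf (hne f h1)

end Groth.Agent.CurveVA
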